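import Cfsg.Agent.Lib.NaturalSL2.Coords

/-!
A finite group acting faithfully and additively on `F²` and containing `SL₂(F)` acting naturally:
root group, fixed line, semilinearity of the normaliser.
-/

set_option autoImplicit false

namespace Cfsg.Agent.NaturalSL2.Embedded

open Matrix

local notation "SL2" F => Matrix.SpecialLinearGroup (Fin 2) F

/-- A faithful additive action on `F²` extending the natural action of `SL₂(F)`. -/
structure Ctx (F G : Type*) [Field F] [Group G] where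
  act : G →* Equiv.Perm (Fin 2 → F)
  inj : Function.Injective act
  map_add : ∀ g v w, act g (v + w) = act g v + act g w
  ι : (SL2 F) →* G
  act_ι : ∀ (s : SL2 F) v, act (ι s) v = (s : Matrix (Fin 2) (Fin 2) F) *ᵥ v

variable {F G : Type*} [Field F] [Group G]

/-- First basis vector. -/
def e₁ : Fin 2 → F := ![1, 0]

/-- Second basis vector. -/
def e₂ : Fin 2 → F := ![0, 1]

/-- The fixed line of the upper unitriangular group. -/
def W : Set (Fin 2 → F) := {v | v 1 = 0}

theorem e₁_ne_zero : (e₁ : Fin 2 → F) ≠ 0 := fun h => by simpa [e₁] using congrFun h 0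

theorem vec_eq (v : Fin 2 → F) : v = v 0 • e₁ + v 1 • e₂ := by
  funext i; fin_cases i <;> simp [e₁, e₂]

theorem eq_smul_e₁ {v : Fin 2 → F} (h : v 1 = 0) : v = v 0 • e₁ := by
  funext i; fin_cases i <;> simp [e₁, h]

/-- Lower unitriangular element. -/
def low (x : F) : SL2 F := ⟨!![1, 0; x, 1], by simp [Matrix.det_fin_two]⟩

theorem uni_mulVec (a : F) (v : Fin 2 → F) :
    (uni a : Matrix (Fin 2) (Fin 2) F) *ᵥ v = ![v 0 + a * v 1, v 1] := by
  funext i; fin_cases i <;> simp [uni, Matrix.mulVec, dotProduct, Fin.sum_univ_two]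

theorem low_mulVec (a : F) (v : Fin 2 → F) :
    (low a : Matrix (Fin 2) (Fin 2) F) *ᵥ v = ![v 0, a * v 0 + v 1] := by
  funext i; fin_cases i <;> simp [low, Matrix.mulVec, dotProduct, Fin.sum_univ_two]

theorem exists_mulVec_e₁ {v : Fin 2 → F} (hv : v ≠ 0) :
    ∃ s : SL2 F, (s : Matrix (Fin 2) (Fin 2) F) *ᵥ e₁ = v := by
  by_cases h : v 0 = 0
  · have h1 : v 1 ≠ 0 := fun h1 => hv (by funext i; fin_cases i <;> simp [h, h1])
    refine ⟨⟨!![0, -(v 1)⁻¹; v 1, 0], by simp [Matrix.det_fin_two, h1]⟩, ?_⟩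
    funext i; fin_cases i <;> simp [e₁, Matrix.mulVec, dotProduct, Fin.sum_univ_two, h]
  · refine ⟨⟨!![v 0, 0; v 1, (v 0)⁻¹], by simp [Matrix.det_fin_two, h]⟩, ?_⟩
    funext i; fin_cases i <;> simp [e₁, Matrix.mulVec, dotProduct, Fin.sum_univ_two]

/-- An additive map commuting with `SL₂(F)` is a scalar. -/
theorem comm_scalar (T : (Fin 2 → F) →+ (Fin 2 → F))
    (h : ∀ (s : SL2 F) v, T ((s : Matrix (Fin 2) (Fin 2) F) *ᵥ v)
      = (s : Matrix (Fin 2) (Fin 2) F) *ᵥ T v) :
    ∃ d : F, ∀ v, T v = d • v := by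
  have h1 : ∀ x : F, T (x • e₁) 1 = 0 := fun x => by
    have := congrFun (h (uni 1) (x • e₁)) 0
    rw [uni_mulVec, uni_mulVec] at this
    have e : (![(x • e₁ : Fin 2 → F) 0 + 1 * (x • e₁ : Fin 2 → F) 1, (x • e₁ : Fin 2 → F) 1]
        : Fin 2 → F) = x • e₁ := by funext i; fin_cases i <;> simp [e₁]
    rw [e] at this
    simpa using this
  have h2 : ∀ x : F, T (x • e₂) 0 = 0 := fun x => by
    have := congrFun (h (low 1) (x • e₂)) 1
    rw [low_mulVec, low_mulVec] at this
    have e : (![(x • e₂ : Fin 2 → F) 0, 1 * (x • e₂ : Fin 2 → F) 0 + (x • e₂ : Fin 2 → F) 1]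
        : Fin 2 → F) = x • e₂ := by funext i; fin_cases i <;> simp [e₂]
    rw [e] at this
    simpa using this
  have h3 : ∀ a y : F, T ((a * y) • e₁) 0 = a * T (y • e₂) 1 := fun a y => by
    have := congrFun (h (uni a) (y • e₂)) 0
    rw [uni_mulVec, uni_mulVec] at this
    have e : (![(y • e₂ : Fin 2 → F) 0 + a * (y • e₂ : Fin 2 → F) 1, (y • e₂ : Fin 2 → F) 1]
        : Fin 2 → F) = (a * y) • e₁ + y • e₂ := by funext i; fin_cases i <;> simp [e₁, e₂]
    rw [e, map_add] at this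
    simp only [Pi.add_apply, h2, add_zero, zero_add, Matrix.cons_val_zero] at this
    exact this
  refine ⟨T e₂ 1, fun v => ?_⟩
  have ha : ∀ a : F, T (a • e₁) 0 = a * T e₂ 1 := fun a => by simpa using h3 a 1
  have hb : ∀ y : F, T (y • e₂) 1 = y * T e₂ 1 := fun y => by
    have := h3 1 y
    rw [one_mul, one_mul, ha] at this
    exact this.symm
  funext i
  conv_lhs => rw [vec_eq v, map_add]
  fin_cases i
  · simp [ha, h2, mul_comm]
  · simp [h1, hb, mul_comm]

namespace Ctx

variable (c : Ctx F G)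

/-- The embedded `SL₂(F)`. -/
def L : Subgroup G := c.ι.range

/-- The root group. -/
def U : Subgroup G := (upperUni F).map c.ι

/-- The stabiliser of the first basis vector. -/
def X : Subgroup G where
  carrier := {g | c.act g e₁ = e₁}
  one_mem' := by simp
  mul_mem' {a b} ha hb := by
    show c.act (a * b) e₁ = e₁
    rw [map_mul, Equiv.Perm.mul_apply, hb, ha]
  inv_mem' {a} ha := by
    show c.act a⁻¹ e₁ = e₁
    rw [map_inv, Equiv.Perm.inv_eq_iff_eq]
    exact ha.symm

theorem mem_X {g : G} : g ∈ c.X ↔ c.act g e₁ = e₁ := Iff.rfl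

theorem act_mul (g h : G) (v : Fin 2 → F) : c.act (g * h) v = c.act g (c.act h v) := by
  rw [map_mul, Equiv.Perm.mul_apply]

theorem act_inv_cancel (g : G) (v : Fin 2 → F) : c.act g⁻¹ (c.act g v) = v := by
  rw [← act_mul, inv_mul_cancel, map_one, Equiv.Perm.one_apply]

theorem act_cancel_inv (g : G) (v : Fin 2 → F) : c.act g (c.act g⁻¹ v) = v := by
  rw [← act_mul, mul_inv_cancel, map_one, Equiv.Perm.one_apply]

theorem ext_act {g h : G} (e : ∀ v, c.act g v = c.act h v) : g = h := c.inj (Equiv.ext e)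

/-- The action of one element as an additive map. -/
def hom (g : G) : (Fin 2 → F) →+ (Fin 2 → F) := AddMonoidHom.mk' (c.act g) (c.map_add g)

theorem act_zero (g : G) : c.act g 0 = 0 := (c.hom g).map_zero

theorem act_sub (g : G) (v w : Fin 2 → F) : c.act g (v - w) = c.act g v - c.act g w :=
  (c.hom g).map_sub v w

theorem act_nsmul (g : G) (n : ℕ) (v : Fin 2 → F) : c.act g (n • v) = n • c.act g v :=
  map_nsmul (c.hom g) n v

theorem ι_injective : Function.Injective c.ι := fun s t h => by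
  apply Subtype.ext
  apply Matrix.ext_of_mulVec_single
  intro i
  rw [← c.act_ι, ← c.act_ι, h]

theorem act_uni (a : F) (v : Fin 2 → F) :
    c.act (c.ι (uni a)) v = ![v 0 + a * v 1, v 1] := by
  rw [c.act_ι, uni_mulVec]

theorem mem_U {u : G} : u ∈ c.U ↔ ∃ a : F, u = c.ι (uni a) := by
  constructor
  · rintro ⟨A, hA, rfl⟩
    exact ⟨_, congrArg c.ι (Subtype.ext (apply_of_mem_upperUni hA))⟩
  · rintro ⟨a, rfl⟩
    exact ⟨_, uni_mem a, rfl⟩

theorem U_le_L : c.U ≤ c.L := Subgroup.map_le_range _ _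

theorem U_le_X : c.U ≤ c.X := fun u hu => by
  obtain ⟨a, rfl⟩ := c.mem_U.1 hu
  rw [mem_X, c.act_uni]
  funext i; fin_cases i <;> simp [e₁]

theorem act_U_eq_iff {u : G} (hu : u ∈ c.U) (h1 : u ≠ 1) (v : Fin 2 → F) :
    c.act u v = v ↔ v ∈ (W : Set (Fin 2 → F)) := by
  obtain ⟨a, rfl⟩ := c.mem_U.1 hu
  have ha : a ≠ 0 := by
    rintro rfl
    apply h1
    apply c.ext_act
    intro v
    rw [c.act_uni, map_one, Equiv.Perm.one_apply]
    funext i; fin_cases i <;> simp
  rw [c.act_uni]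
  constructor
  · intro h
    have := congrFun h 0
    simpa [ha, W] using this
  · intro h
    funext i; fin_cases i <;> simp [W] at h ⊢; simp [h]

theorem card_U : Nat.card c.U = Nat.card F := by
  rw [U, Subgroup.card_map_of_injective c.ι_injective]
  exact Nat.card_congr uniEquiv

theorem exists_act_e₁ {v : Fin 2 → F} (hv : v ≠ 0) : ∃ l ∈ c.L, c.act l e₁ = v := by
  obtain ⟨s, hs⟩ := exists_mulVec_e₁ hv
  exact ⟨c.ι s, ⟨s, rfl⟩, by rw [c.act_ι, hs]⟩

/-- Elements normalising `L` are semilinear. -/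
theorem semilinear {n : G} (hn : n ∈ Subgroup.normalizer (c.L : Set G)) (x : F) :
    ∃ d : F, ∀ v, c.act n (x • v) = d • c.act n v := by
  let T : (Fin 2 → F) →+ (Fin 2 → F) :=
    AddMonoidHom.mk' (fun w => c.act n (x • c.act n⁻¹ w))
      (fun a b => by rw [c.map_add, smul_add, c.map_add])
  obtain ⟨d, hd⟩ := comm_scalar T (fun s v => by
    obtain ⟨s', hs'⟩ : n⁻¹ * c.ι s * n ∈ c.L := by
      have := (Subgroup.mem_normalizer_iff.1 (inv_mem hn) (c.ι s)).1 ⟨s, rfl⟩
      rwa [inv_inv] at this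
    show c.act n (x • c.act n⁻¹ ((s : Matrix (Fin 2) (Fin 2) F) *ᵥ v)) = _ *ᵥ c.act n (x • c.act n⁻¹ v)
    have h1 : ∀ w, c.act n⁻¹ ((s : Matrix (Fin 2) (Fin 2) F) *ᵥ c.act n w) = (s' : Matrix (Fin 2) (Fin 2) F) *ᵥ w := by
      intro w
      rw [← c.act_ι, ← c.act_ι, ← c.act_mul, ← c.act_mul, hs', mul_assoc]
    have h2 := h1 (c.act n⁻¹ v)
    rw [c.act_cancel_inv] at h2
    rw [h2, ← Matrix.mulVec_smul]
    rw [← h1, c.act_cancel_inv])
  refine ⟨d, fun v => ?_⟩
  have := hd (c.act n v)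
  simpa [T, c.act_inv_cancel] using this

/-- The field automorphism attached to an element normalising `L` and fixing `e₁`. -/
def s (g : G) (x : F) : F := c.act g (x • e₁) 0

theorem act_smul {n : G} (hn : n ∈ Subgroup.normalizer (c.L : Set G) ⊓ c.X) (x : F)
    (v : Fin 2 → F) : c.act n (x • v) = c.s n x • c.act n v := by
  obtain ⟨d, hd⟩ := c.semilinear hn.1 x
  have : c.s n x = d := by
    show c.act n (x • e₁) 0 = d
    rw [hd, hn.2]; simp [e₁]
  rw [this, hd]

theorem act_smul_e₁ {n : G} (hn : n ∈ Subgroup.normalizer (c.L : Set G) ⊓ c.X) (x : F) :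
    c.act n (x • e₁) = c.s n x • e₁ := by rw [c.act_smul hn, hn.2]

theorem s_mul_mul {n : G} (hn : n ∈ Subgroup.normalizer (c.L : Set G) ⊓ c.X) (x y : F) :
    c.s n (x * y) = c.s n x * c.s n y := by
  have := congrFun (c.act_smul hn x (y • e₁)) 0
  rw [smul_smul, c.act_smul_e₁ hn y] at this
  simpa [s, e₁] using this

theorem s_add (g : G) (x y : F) : c.s g (x + y) = c.s g x + c.s g y := by
  simp [s, add_smul, c.map_add]

theorem s_comp {n m : G} (hm : m ∈ Subgroup.normalizer (c.L : Set G) ⊓ c.X) (x : F) :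
    c.s (n * m) x = c.s n (c.s m x) := by
  show c.act (n * m) (x • e₁) 0 = _
  rw [c.act_mul, c.act_smul_e₁ hm]; rfl

theorem s_one (x : F) : c.s 1 x = x := by simp [s, e₁]

/-- `s` as a homomorphism into the automorphisms of `F`. -/
def σ : ↥(Subgroup.normalizer (c.L : Set G) ⊓ c.X) →* (F ≃+* F) where
  toFun n :=
    { toFun := c.s n
      invFun := c.s (n⁻¹ : ↥(Subgroup.normalizer (c.L : Set G) ⊓ c.X))
      left_inv := fun x => by rw [← c.s_comp n.2, ← Subgroup.coe_mul, inv_mul_cancel, Subgroup.coe_one, s_one]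
      right_inv := fun x => by rw [← c.s_comp (n⁻¹).2, ← Subgroup.coe_mul, mul_inv_cancel, Subgroup.coe_one, s_one]
      map_mul' := c.s_mul_mul n.2
      map_add' := c.s_add n }
  map_one' := RingEquiv.ext fun x => c.s_one x
  map_mul' n m := RingEquiv.ext fun x => c.s_comp m.2 x

@[simp] theorem σ_apply (n : ↥(Subgroup.normalizer (c.L : Set G) ⊓ c.X)) (x : F) :
    c.σ n x = c.s n x := rfl

theorem eq_uni_of_linear {n : G} (hn : n ∈ Subgroup.normalizer (c.L : Set G) ⊓ c.X)
    (hs : ∀ x, c.s n x = x) (hd : c.act n e₂ 1 = 1) : n ∈ c.U := by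
  refine c.mem_U.2 ⟨c.act n e₂ 0, c.ext_act fun v => ?_⟩
  rw [c.act_uni]
  conv_lhs => rw [vec_eq v, c.map_add, c.act_smul hn, c.act_smul hn, hn.2, hs, hs]
  funext i; fin_cases i <;> simp [e₁, hd, mul_comm]

/-- A `p`-element with trivial field automorphism lies in the root group. -/
theorem mem_U_of_s {p : ℕ} [Fact p.Prime] [CharP F p] {n : G}
    (hn : n ∈ Subgroup.normalizer (c.L : Set G) ⊓ c.X) (hs : ∀ x, c.s n x = x) {j : ℕ}
    (hj : n ^ p ^ j = 1) : n ∈ c.U := by
  refine c.eq_uni_of_linear hn hs ?_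
  set d := c.act n e₂ 1
  have hv : ∀ v : Fin 2 → F, c.act n v 1 = d * v 1 := fun v => by
    conv_lhs => rw [vec_eq v, c.map_add, c.act_smul hn, c.act_smul hn, hn.2, hs, hs]
    simp [e₁, d, mul_comm]
  have hpow : ∀ k : ℕ, c.act (n ^ k) e₂ 1 = d ^ k := fun k => by
    induction k with
    | zero => simp [e₂]
    | succ k ih => rw [pow_succ', c.act_mul, hv, ih, pow_succ']
  have h1 : d ^ p ^ j = 1 := by
    rw [← hpow, hj, map_one]; simp [e₂]
  have h2 : (d - 1) ^ p ^ j = 0 := by rw [sub_pow_char_pow, h1, one_pow, sub_self]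
  exact sub_eq_zero.1 (eq_zero_of_pow_eq_zero h2)

end Ctx

end Cfsg.Agent.NaturalSL2.Embedded
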