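import Cfsg.Agent.Lib.NaturalSL2.Embedded.Basic
import Cfsg.Agent.Lib.Chev.OutStructure

/-!
Fixed lines of the conjugates of the root group, and the Sylow subgroup fixing the first basis vector.
-/

set_option autoImplicit false

namespace Cfsg.Agent.NaturalSL2.Embedded

open Matrix

variable {F G : Type*} [Field F] [Group G] (c : Ctx F G)

namespace Ctx

/-- Elements fixing the fixed line pointwise and acting trivially modulo it. -/
def KW : Subgroup G where
  carrier := {g | (∀ v ∈ (W : Set (Fin 2 → F)), c.act g v = v) ∧ ∀ v, c.act g v 1 = v 1}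
  one_mem' := by simp
  mul_mem' {a b} ha hb :=
    ⟨fun v hv => by rw [c.act_mul, hb.1 v hv, ha.1 v hv],
      fun v => by rw [c.act_mul, ha.2, hb.2]⟩
  inv_mem' {a} ha :=
    ⟨fun v hv => by conv_lhs => rw [← ha.1 v hv, c.act_inv_cancel],
      fun v => by conv_rhs => rw [← c.act_cancel_inv a v, ha.2]⟩

theorem U_le_KW : c.U ≤ c.KW := fun u hu => by
  obtain ⟨a, rfl⟩ := c.mem_U.1 hu
  refine ⟨fun v hv => ?_, fun v => by simp [c.act_uni]⟩
  rw [c.act_uni]
  funext i; fin_cases i <;> simp [show v 1 = 0 from hv]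

/-- The fixed line of the conjugate of the root group by `g`. -/
def Wof (g : G) : Set (Fin 2 → F) := c.act g '' W

/-- The conjugate of the root group by `g`. -/
def Uof (g : G) : Subgroup G := c.U.map (MulAut.conj g).toMonoidHom

theorem Wof_one : c.Wof 1 = W := by simp [Wof]

theorem Wof_mul (g h : G) : c.Wof (g * h) = c.act g '' c.Wof h := by
  rw [Wof, Wof, Set.image_image]
  simp only [c.act_mul]

theorem mem_Wof {g : G} {v : Fin 2 → F} : v ∈ c.Wof g ↔ c.act g⁻¹ v 1 = 0 := by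
  constructor
  · rintro ⟨w, hw, rfl⟩
    rw [c.act_inv_cancel]; exact hw
  · intro h
    exact ⟨_, h, c.act_cancel_inv g v⟩

theorem mem_Uof {g u : G} : u ∈ c.Uof g ↔ g⁻¹ * u * g ∈ c.U := by
  rw [Uof, Subgroup.mem_map_equiv]
  simp

theorem conj_mem_Uof {g u : G} (hu : u ∈ c.U) : g * u * g⁻¹ ∈ c.Uof g := ⟨u, hu, rfl⟩

theorem Uof_one : c.Uof 1 = c.U := by
  ext u; simp [mem_Uof]

theorem Uof_mul (g h : G) : c.Uof (g * h) = (c.Uof h).map (MulAut.conj g).toMonoidHom := by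
  rw [Uof, Uof, Subgroup.map_map]
  congr 1
  ext x
  simp [mul_assoc]

theorem card_Uof (g : G) : Nat.card (c.Uof g) = Nat.card F := by
  rw [Uof, Subgroup.card_map_of_injective (MulAut.conj g).injective, c.card_U]

theorem act_Uof_eq_iff {g u : G} (hu : u ∈ c.Uof g) (h1 : u ≠ 1) (v : Fin 2 → F) :
    c.act u v = v ↔ v ∈ c.Wof g := by
  have hu' := c.mem_Uof.1 hu
  have h1' : g⁻¹ * u * g ≠ 1 := fun h => h1 (by
    have := congrArg (fun z => g * z * g⁻¹) h
    simpa [mul_assoc] using this)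
  rw [c.mem_Wof, show (c.act g⁻¹ v 1 = 0) ↔ c.act g⁻¹ v ∈ (W : Set (Fin 2 → F)) from Iff.rfl,
    ← c.act_U_eq_iff hu' h1']
  simp only [c.act_mul, c.act_cancel_inv]
  exact ⟨fun h => by rw [h], fun h => (c.act g⁻¹).injective h⟩

theorem Wof_eq_of_mem {g h u : G} (hg : u ∈ c.Uof g) (hh : u ∈ c.Uof h) (h1 : u ≠ 1) :
    c.Wof g = c.Wof h :=
  Set.ext fun v => (c.act_Uof_eq_iff hg h1 v).symm.trans (c.act_Uof_eq_iff hh h1 v)

theorem conj_mem_KW {x : G} (hx : c.Wof x = W) {u : G} (hu : u ∈ c.KW) :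
    x * u * x⁻¹ ∈ c.KW := by
  have hin : ∀ v : Fin 2 → F, v ∈ (W : Set (Fin 2 → F)) → c.act x⁻¹ v ∈ (W : Set (Fin 2 → F)) :=
    fun v hv => by
      rw [← hx] at hv
      exact c.mem_Wof.1 hv
  refine ⟨fun v hv => ?_, fun v => ?_⟩
  · rw [c.act_mul, c.act_mul, hu.1 _ (hin v hv), c.act_cancel_inv]
  · have hd : c.act u (c.act x⁻¹ v) - c.act x⁻¹ v ∈ (W : Set (Fin 2 → F)) := by
      show (c.act u (c.act x⁻¹ v) - c.act x⁻¹ v) 1 = 0
      rw [Pi.sub_apply, hu.2, sub_self]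
    have : c.act x (c.act u (c.act x⁻¹ v) - c.act x⁻¹ v) ∈ (W : Set (Fin 2 → F)) := by
      rw [← hx]; exact ⟨_, hd, rfl⟩
    rw [c.act_sub, c.act_cancel_inv, ← c.act_mul, ← c.act_mul] at this
    exact sub_eq_zero.1 this

theorem Wof_eq_of_preserves {t : G} [Finite F] (h : ∀ v ∈ (W : Set (Fin 2 → F)), c.act t v ∈ (W : Set (Fin 2 → F))) :
    c.Wof t = W := by
  refine Set.eq_of_subset_of_ncard_le (by rintro _ ⟨v, hv, rfl⟩; exact h v hv) ?_ (Set.toFinite _)
  rw [Wof, Set.ncard_image_of_injective _ (c.act t).injective]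

theorem X_le_of_mem {g : G} (hg : g ∈ c.X) : (e₁ : Fin 2 → F) ∈ c.Wof g := by
  rw [c.mem_Wof, inv_mem hg]; simp [e₁]

theorem isPGroup_KW {p : ℕ} [Fact p.Prime] [CharP F p] : IsPGroup p c.KW := fun g => by
  refine ⟨1, Subtype.ext (c.ext_act fun v => ?_)⟩
  have hk : ∀ k : ℕ, c.act ((g : G) ^ k) v = v + k • (c.act g v - v) := fun k => by
    induction k with
    | zero => simp
    | succ k ih =>
      have hd : c.act (g : G) (c.act g v - v) = c.act g v - v := g.2.1 _ (by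
        show (c.act (g : G) v - v) 1 = 0
        rw [Pi.sub_apply, g.2.2, sub_self])
      rw [pow_succ', c.act_mul, ih, c.map_add, c.act_nsmul, hd, succ_nsmul]
      abel
  rw [pow_one, Subgroup.coe_pow, hk, Subgroup.coe_one, map_one, Equiv.Perm.one_apply]
  funext i
  simp [CharP.cast_eq_zero F p]

theorem Uof_le_X {g : G} (hg : g ∈ c.X) : c.Uof g ≤ c.X := by
  intro u hu
  obtain ⟨w, hw, rfl⟩ := hu
  simp only [MulEquiv.coe_toMonoidHom, MulAut.conj_apply]
  exact mul_mem (mul_mem hg (c.U_le_X hw)) (inv_mem hg)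

theorem Wof_preserved_of_mem_N {n : G} [Finite F]
    (hn : n ∈ Subgroup.normalizer (c.L : Set G) ⊓ c.X) : c.Wof n = W :=
  c.Wof_eq_of_preserves fun v hv => by
    rw [eq_smul_e₁ hv, c.act_smul_e₁ hn]
    show (c.s n (v 0) • (e₁ : Fin 2 → F)) 1 = 0
    simp [e₁]

theorem KW_inf_normalizer : c.KW ⊓ Subgroup.normalizer (c.L : Set G) ≤ c.U := fun n hn => by
  have hX : n ∈ c.X := hn.1.1 e₁ (by simp [W, e₁])
  refine c.eq_uni_of_linear ⟨hn.2, hX⟩ (fun x => ?_) ?_
  · show c.act n (x • e₁) 0 = x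
    rw [hn.1.1 _ (by simp [W, e₁])]; simp [e₁]
  · rw [hn.1.2]; simp [e₂]

end Ctx

/-- A Sylow subgroup fixing `e₁`, normalising `L` and containing the root group. -/
structure Sys {F G : Type*} [Field F] [Group G] (c : Ctx F G) (p : ℕ) where
  P : Subgroup G
  isP : IsPGroup p P
  le : P ≤ Subgroup.normalizer (c.L : Set G) ⊓ c.X
  index : ¬ p ∣ P.index
  U_le : c.U ≤ P
  KW_eq : c.KW = c.U

theorem relIndex_stabilizer [Finite G] [Fintype F] {H : Subgroup G} (hH : c.L ≤ H) :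
    c.X.relIndex H = Fintype.card F ^ 2 - 1 := by
  classical
  let _ : MulAction ↥H (Fin 2 → F) := MulAction.compHom _ (c.act.comp H.subtype)
  have hst : MulAction.stabilizer ↥H (e₁ : Fin 2 → F) = c.X.subgroupOf H := by
    ext h
    rw [MulAction.mem_stabilizer_iff, Subgroup.mem_subgroupOf]
    exact Iff.rfl
  have horb : MulAction.orbit ↥H (e₁ : Fin 2 → F) = {v | v ≠ 0} := by
    ext v
    constructor
    · rintro ⟨h, rfl⟩ h0
      exact e₁_ne_zero ((c.act (h : G)).injective (h0.trans (c.act_zero _).symm))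
    · intro hv
      obtain ⟨l, hl, e⟩ := c.exists_act_e₁ hv
      exact ⟨⟨l, hH hl⟩, e⟩
  have hi := MulAction.index_stabilizer (G := ↥H) (e₁ : Fin 2 → F)
  rw [hst, horb, show ({v : Fin 2 → F | v ≠ 0}) = {(0 : Fin 2 → F)}ᶜ from rfl, Set.ncard_compl,
    Set.ncard_singleton, Nat.card_eq_fintype_card, Fintype.card_pi_const] at hi
  exact hi

theorem not_dvd_index_stabilizer [Finite G] [Fintype F] {p : ℕ} [Fact p.Prime] [CharP F p]
    {H : Subgroup G} (hH : c.L ≤ H) : ¬ p ∣ c.X.relIndex H := by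
  rw [relIndex_stabilizer c hH]
  intro hd
  have h2 : p ∣ Fintype.card F ^ 2 := by
    obtain ⟨n, -, hn⟩ := FiniteField.card F p
    rw [hn]
    exact dvd_pow (dvd_pow_self p n.ne_zero) two_ne_zero
  have hpos : 1 ≤ Fintype.card F ^ 2 := Nat.one_le_pow _ _ Fintype.card_pos
  have := Nat.dvd_sub h2 hd
  rw [Nat.sub_sub_self hpos] at this
  exact (Fact.out : p.Prime).one_lt.ne' (Nat.dvd_one.1 this)

theorem nonempty_sys [Finite G] [Fintype F] {p : ℕ} [hp : Fact p.Prime] [CharP F p]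
    (hidx : ¬ p ∣ (Subgroup.normalizer (c.L : Set G)).index) : Nonempty (Sys c p) := by
  classical
  set N := Subgroup.normalizer (c.L : Set G) with hN
  have hidx' : ¬ p ∣ (N ⊓ c.X).index := by
    rw [← Subgroup.relIndex_mul_index (inf_le_left : N ⊓ c.X ≤ N), Subgroup.inf_relIndex_left]
    exact hp.out.not_dvd_mul (not_dvd_index_stabilizer c Subgroup.le_normalizer) hidx
  obtain ⟨P⟩ : Nonempty (Sylow p ↥(N ⊓ c.X)) := inferInstance
  set P' := (P : Subgroup ↥(N ⊓ c.X)).map (N ⊓ c.X).subtype with hP'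
  have hPle : P' ≤ N ⊓ c.X := Subgroup.map_subtype_le _
  have hPidx : ¬ p ∣ P'.index := by
    rw [hP', Subgroup.index_map_subtype]
    exact hp.out.not_dvd_mul P.not_dvd_index hidx'
  have hPp : IsPGroup p P' := P.2.map _
  have hmax : ∀ Q : Subgroup G, IsPGroup p Q → P' ≤ Q → Q = P' := fun Q hQ hle =>
    (hPp.toSylow hPidx).3 hQ hle
  have hnorm : ∀ n ∈ N ⊓ c.X, ∀ u ∈ c.KW, n * u * n⁻¹ ∈ c.KW := fun n hn u hu =>
    c.conj_mem_KW (c.Wof_preserved_of_mem_N hn) hu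
  have hsup : IsPGroup p (c.KW ⊔ P' : Subgroup G) := by
    refine IsPGroup.to_sup_of_normal_left' c.isPGroup_KW hPp fun n hn => ?_
    refine Subgroup.mem_normalizer_iff.2 fun u => ⟨fun hu => hnorm n (hPle hn) u hu, fun hu => ?_⟩
    have := hnorm n⁻¹ (inv_mem (hPle hn)) _ hu
    simpa [mul_assoc] using this
  have hKle : c.KW ≤ P' := (hmax _ hsup le_sup_right) ▸ le_sup_left
  exact ⟨{
    P := P'
    isP := hPp
    le := hPle
    index := hPidx
    U_le := c.U_le_KW.trans hKle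
    KW_eq := le_antisymm (fun k hk => c.KW_inf_normalizer ⟨hk, (hPle (hKle hk)).1⟩) c.U_le_KW }⟩

end Cfsg.Agent.NaturalSL2.Embedded
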