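import Cfsg.Agent.Lib.NaturalSL2.Embedded.Main
import Cfsg.Agent.Lib.GL.FourTwo

/-!
The case `q = 4`: `L` is normal or the group is `A₇`.
-/

set_option autoImplicit false

namespace Cfsg.Agent.NaturalSL2.Embedded

open Matrix
open scoped commutatorElement

theorem commutator_SL2_eq_top {F : Type*} [Field F] {k : F} (hk : k ≠ 0) (hk1 : k * k ≠ 1) :
    commutator (Matrix.SpecialLinearGroup (Fin 2) F) = ⊤ := by
  let S := Matrix.SpecialLinearGroup (Fin 2) F
  let h : S := ⟨!![k, 0; 0, k⁻¹], by simp [Matrix.det_fin_two, hk]⟩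
  have hu : ∀ a : F, uni a ∈ commutator S := fun a => by
    have hk2 : k * k - 1 ≠ 0 := sub_ne_zero.2 hk1
    have hk3 : -1 + k ^ 2 ≠ 0 := by rw [show -1 + k ^ 2 = k * k - 1 by ring]; exact hk2
    have hk4 : k ^ 2 - 1 ≠ 0 := by rw [pow_two]; exact hk2
    have e : uni a = ⁅h, uni (a / (k * k - 1))⁆ := by
      apply Subtype.ext
      rw [commutatorElement_def, Matrix.SpecialLinearGroup.coe_mul, Matrix.SpecialLinearGroup.coe_mul,
        Matrix.SpecialLinearGroup.coe_mul, Matrix.SpecialLinearGroup.coe_inv,
        Matrix.SpecialLinearGroup.coe_inv]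
      ext r s
      fin_cases r <;> fin_cases s <;>
        simp [h, uni, Matrix.adjugate_fin_two, Matrix.mul_apply, Fin.sum_univ_two] <;> first | (field_simp; ring1) | linear_combination -a * mul_inv_cancel₀ hk3 | (ring_nf; linear_combination -a * mul_inv_cancel₀ hk3) | field_simp
    rw [e]
    exact Subgroup.commutator_mem_commutator (Subgroup.mem_top _) (Subgroup.mem_top _)
  refine (Subgroup.eq_top_iff' _).2 fun A => ?_
  induction A using GL.SL_induction with
  | one => exact one_mem _
  | mul A B hA hB => exact mul_mem hA hB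
  | transvec i j hij a =>
    fin_cases i <;> fin_cases j <;> first | exact absurd rfl hij | skip
    · have e : Matrix.SpecialLinearGroup.transvection hij a = uni a := by
        apply Subtype.ext
        ext r s
        fin_cases r <;> fin_cases s <;>
          simp [uni, Matrix.SpecialLinearGroup.transvection_coe, Matrix.transvection]
      rw [e]; exact hu a
    · let w : S := ⟨!![0, 1; -1, 0], by simp [Matrix.det_fin_two]⟩
      have e : Matrix.SpecialLinearGroup.transvection hij a = w * uni (-a) * w⁻¹ := by
        apply Subtype.ext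
        rw [Matrix.SpecialLinearGroup.coe_mul, Matrix.SpecialLinearGroup.coe_mul,
          Matrix.SpecialLinearGroup.coe_inv]
        ext r s
        fin_cases r <;> fin_cases s <;>
          simp [w, uni, Matrix.SpecialLinearGroup.transvection_coe, Matrix.transvection,
            Matrix.adjugate_fin_two, Matrix.mul_apply, Fin.sum_univ_two]
      rw [e]
      exact (Subgroup.Normal.conj_mem inferInstance _ (hu _) w)

/-- A subgroup of index eight of `SL(4,2)` is `A₇`. -/
theorem iso_seven {H : Subgroup (Matrix.SpecialLinearGroup (Fin 4) (ZMod 2))} (hH : H.index = 8) :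
    Nonempty (↥H ≃* ↥(alternatingGroup (Fin 7))) := by
  classical
  obtain ⟨e8⟩ := GL.FourTwo.iso_alternating
  have hs : IsSimpleGroup (Matrix.SpecialLinearGroup (Fin 4) (ZMod 2)) :=
    haveI := GL.PSL_isSimpleGroup (F := ZMod 2) 4 (by norm_num) (by norm_num)
    MulEquiv.isSimpleGroup (GL.FourTwo.pslEquiv (ZMod.card 2)).symm
  let S := Matrix.SpecialLinearGroup (Fin 4) (ZMod 2)
  let e : S ⧸ H ≃ Fin 8 := Finite.equivFinOfCardEq hH
  let f : S →* Equiv.Perm (Fin 8) := (Equiv.permCongrHom e).toMonoidHom.comp (MulAction.toPermHom S (S ⧸ H))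
  have hne : H ≠ ⊤ := fun h => by rw [h, Subgroup.index_top] at hH; omega
  have hq : ∀ g : S, ((g : S) : S ⧸ H) = ((1 : S) : S ⧸ H) ↔ g ∈ H := fun g => by
    rw [QuotientGroup.eq, mul_one]; exact inv_mem_iff
  have hf : Function.Injective f := by
    rw [← MonoidHom.ker_eq_bot_iff]
    rcases (inferInstance : f.ker.Normal).eq_bot_or_eq_top with h | h
    · exact h
    · refine absurd (top_le_iff.1 fun g _ => ?_) hne
      have hg : f g = 1 := MonoidHom.mem_ker.1 (h ▸ Subgroup.mem_top g)
      have := DFunLike.congr_fun hg (e (QuotientGroup.mk 1))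
      simp [f] at this
      exact (hq g).1 this
  have hcard : Nat.card S = 20160 := GL.FourTwo.card_eq (ZMod.card 2)
  have hfA : ∀ g, f g ∈ alternatingGroup (Fin 8) := fun g => by
    rw [Equiv.Perm.mem_alternatingGroup]
    rcases (inferInstance : ((Equiv.Perm.sign).comp f).ker.Normal).eq_bot_or_eq_top with h | h
    · exfalso
      have := Nat.card_le_card_of_injective _ ((MonoidHom.ker_eq_bot_iff _).1 h)
      rw [hcard, Nat.card_eq_fintype_card, Fintype.card_units_int] at this
      omega
    · have hg : g ∈ ((Equiv.Perm.sign).comp f).ker := by rw [h]; exact Subgroup.mem_top g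
      exact hg
  set a : Fin 8 := e (QuotientGroup.mk 1)
  have hstab : ∀ g, g ∈ H ↔ f g a = a := fun g => by
    constructor
    · intro hg; simpa [f, a] using (hq g).2 hg
    · intro hg; exact (hq g).1 (by simpa [f, a] using hg)
  let e7 : {x : Fin 8 // x ≠ a} ≃ Fin 7 := Fintype.equivFinOfCardEq (by simp)
  have hinv : ∀ g : ↥H, ∀ x : Fin 8, x ≠ a ↔ f g x ≠ a := fun g x => by
    constructor
    · intro hx h; exact hx ((f g).injective (h.trans ((hstab _).1 g.2).symm))
    · intro hx h; exact hx (h ▸ (hstab _).1 g.2)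
  let r : ↥H →* Equiv.Perm (Fin 7) :=
    (Equiv.permCongrHom e7).toMonoidHom.comp
      { toFun := fun g => (f g).subtypePerm (fun x => (hinv g x).symm)
        map_one' := by ext x; simp
        map_mul' := fun g h => Equiv.ext fun x => Subtype.ext (by
          show f ((g * h : ↥H) : S) (x : Fin 8) = _
          rw [Subgroup.coe_mul, map_mul]; rfl) }
  have hr : Function.Injective r := by
    intro g h hgh
    refine Subtype.ext (hf (Equiv.ext fun x => ?_))
    by_cases hx : x = a
    · rw [hx, (hstab _).1 g.2, (hstab _).1 h.2]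
    · have := (Equiv.permCongrHom e7).injective hgh
      exact congrArg Subtype.val (DFunLike.congr_fun this ⟨x, hx⟩)
  have hrA : ∀ g, r g ∈ alternatingGroup (Fin 7) := fun g => by
    rw [Equiv.Perm.mem_alternatingGroup]
    show Equiv.Perm.sign (e7.permCongr ((f g).subtypePerm fun x => (hinv g x).symm)) = 1
    refine (Equiv.Perm.sign_permCongr _ _).trans ((Equiv.Perm.sign_subtypePerm _ _ ?_).trans
      (Equiv.Perm.mem_alternatingGroup.1 (hfA g)))
    intro x hx h
    exact hx (h ▸ (hstab _).1 g.2)
  have h7 : Nat.card (alternatingGroup (Fin 7)) = 2520 := by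
    rw [nat_card_alternatingGroup, Nat.card_fin]; rfl
  have hHc : Nat.card H = 2520 := by
    have := H.card_mul_index
    rw [hH, hcard] at this
    omega
  refine ⟨MulEquiv.ofBijective (r.codRestrict _ hrA) ?_⟩
  rw [Nat.bijective_iff_injective_and_card]
  exact ⟨fun g h e => hr (congrArg Subtype.val e), by rw [hHc, h7]⟩

namespace Sys

variable {F G : Type*} [Field F] [Group G] [Finite G] [Fintype F] {c : Ctx F G}
  [CharP F 2] (y : Sys c 2)

include y in
theorem four_case (hF : Nat.card F = 4) {w : G} (hw : w ∈ y.P) (hwU : w ∉ c.U)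
    {x₀ : G} (hx₀ : x₀ ∈ c.X) (hne : c.Wof x₀ ≠ W) :
    c.L.Normal ∨ Nonempty (G ≃* ↥(alternatingGroup (Fin 7))) := by
  classical
  have hF' : Fintype.card F = 4 := by rw [← Nat.card_eq_fintype_card]; exact hF
  haveI : Finite (F ≃+* F) := Finite.of_injective (fun σ => (σ : F → F)) DFunLike.coe_injective
  have : Fintype (F ≃+* F) := Fintype.ofFinite _
  have : IsCyclic (F ≃+* F) := Chev.isCyclic_ringAut F
  have hAut : Nat.card (F ≃+* F) ≤ 2 := by
    have hall : ∀ σ : F ≃+* F, σ ^ 2 = 1 := fun σ => by
      refine RingEquiv.ext fun a => ?_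
      show σ (σ a) = a
      by_cases ha0 : a = 0
      · simp [ha0]
      by_cases ha1 : a = 1
      · simp [ha1]
      by_contra hne
      have h1 : σ a ≠ 0 := fun h => ha0 ((map_eq_zero σ).1 h)
      have h2 : σ a ≠ 1 := fun h => ha1 (σ.injective (h.trans (map_one σ).symm))
      have h3 : σ a ≠ a := fun h => hne (by rw [h, h])
      have h4 : σ (σ a) ≠ 0 := fun h => h1 ((map_eq_zero σ).1 h)
      have h5 : σ (σ a) ≠ 1 := fun h => h2 (σ.injective (h.trans (map_one σ).symm))
      have h6 : σ (σ a) ≠ σ a := fun h => h3 (σ.injective h)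
      have : ({0, 1, a, σ a, σ (σ a)} : Finset F).card = 5 := by
        rw [Finset.card_insert_of_notMem, Finset.card_insert_of_notMem, Finset.card_insert_of_notMem,
          Finset.card_insert_of_notMem, Finset.card_singleton] <;>
          simp [Ne.symm ha0, Ne.symm ha1, Ne.symm h1, Ne.symm h2, Ne.symm h3, Ne.symm h4, Ne.symm h5,
            Ne.symm h6, Ne.symm hne]
      have h7 := Finset.card_le_univ ({0, 1, a, σ a, σ (σ a)} : Finset F)
      omega
    rw [Nat.card_eq_fintype_card]
    have := IsCyclic.card_pow_eq_one_le (α := F ≃+* F) (n := 2) two_pos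
    rwa [Finset.filter_true_of_mem fun σ _ => hall σ, Finset.card_univ] at this
  -- the Sylow subgroup has order eight
  have hP8 : Nat.card y.P = 8 := by
    let f : ↥y.P →* (F ≃+* F) := c.σ.comp (Subgroup.inclusion y.le)
    have hker : f.ker.map y.P.subtype ≤ c.U := by
      rintro _ ⟨t, ht, rfl⟩
      obtain ⟨j, hj⟩ := y.isP t
      exact c.mem_U_of_s (j := j) (y.le t.2) (fun a => DFunLike.congr_fun (ht : f t = 1) a)
        (by simpa using congrArg Subtype.val hj)
    have hk4 : Nat.card f.ker ≤ 4 := by
      rw [← Subgroup.card_map_of_injective (Subgroup.subtype_injective y.P), ← hF, ← c.card_U]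
      exact Subgroup.card_le_of_le hker
    have hle : Nat.card y.P ≤ 8 := by
      rw [Subgroup.card_eq_card_quotient_mul_card_subgroup f.ker]
      calc _ ≤ 2 * 4 := by
            gcongr
            rw [Nat.card_congr (QuotientGroup.quotientKerEquivRange f).toEquiv]
            exact (Subgroup.card_le_card_group _).trans hAut
        _ = 8 := rfl
    have hlt : 4 < Nat.card y.P := by
      rw [← hF, ← c.card_U]
      refine lt_of_le_of_ne (Subgroup.card_le_of_le y.U_le) fun h => hwU ?_
      rw [Subgroup.eq_of_le_of_card_ge y.U_le h.ge]; exact hw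
    obtain ⟨k, hk⟩ := IsPGroup.iff_card.1 y.isP
    rw [hk] at hle hlt ⊢
    have : k ≤ 3 := (Nat.pow_le_pow_iff_right one_lt_two).1 (le_of_le_of_eq hle (by norm_num))
    interval_cases k <;> simp_all
  set N := Subgroup.normalizer (c.L : Set G) with hN
  have hPN : y.P ≤ N := y.le.trans inf_le_left
  have hPX : y.P ≤ c.X := y.le.trans inf_le_right
  have hX15 : c.X.index = 15 := by
    rw [← Subgroup.relIndex_top_right, relIndex_stabilizer c le_top, hF']; norm_num
  have hL : Nat.card c.L = 60 := by
    rw [Ctx.L]
    rw [Nat.card_congr (MonoidHom.ofInjective c.ι_injective).toEquiv.symm]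
    classical
    rw [GL.card_SL2 (F := F), hF']
    norm_num
  have h120 : 120 ∣ Nat.card N := by
    have h8 : 8 ∣ Nat.card N := hP8 ▸ Subgroup.card_dvd_of_le hPN
    have h60 : 60 ∣ Nat.card N := hL ▸ Subgroup.card_dvd_of_le Subgroup.le_normalizer
    exact (show Nat.lcm 8 60 = 120 by decide) ▸ Nat.lcm_dvd h8 h60
  -- embedding in SL(4,2)
  letI : Module (ZMod 2) (Fin 2 → F) := AddCommGroup.zmodModule fun v => by
    funext i; rw [Pi.smul_apply, nsmul_eq_mul, CharP.cast_eq_zero F 2, zero_mul]; rfl
  have hrank : Module.finrank (ZMod 2) (Fin 2 → F) = 4 := by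
    have h := Module.card_eq_pow_finrank (K := ZMod 2) (V := Fin 2 → F)
    rw [Fintype.card_pi_const, hF', ZMod.card] at h
    exact (Nat.pow_right_injective le_rfl h).symm
  let b := Module.finBasisOfFinrankEq (ZMod 2) (Fin 2 → F) hrank
  let M : G →* Matrix (Fin 4) (Fin 4) (ZMod 2) :=
    { toFun := fun g => LinearMap.toMatrix b b ((c.hom g).toZModLinearMap 2)
      map_one' := by
        rw [show (c.hom 1).toZModLinearMap 2 = LinearMap.id from LinearMap.ext fun v => by
          show c.act 1 v = v
          simp, LinearMap.toMatrix_id]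
      map_mul' := fun g h => by
        rw [← LinearMap.toMatrix_comp b b b]
        congr 1
        exact LinearMap.ext fun v => c.act_mul g h v }
  have hdet : ∀ g, (M g).det = 1 := fun g => by
    have h : (M g).det * (M g⁻¹).det = 1 := by
      rw [← Matrix.det_mul, ← map_mul, mul_inv_cancel, map_one, Matrix.det_one]
    generalize (M g).det = d at h
    generalize (M g⁻¹).det = d' at h
    revert d d'
    decide
  let E : G →* Matrix.SpecialLinearGroup (Fin 4) (ZMod 2) :=
    { toFun := fun g => ⟨M g, hdet g⟩
      map_one' := Subtype.ext (map_one M)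
      map_mul' := fun g h => Subtype.ext (map_mul M g h) }
  have hE : Function.Injective E := fun g h e => c.ext_act fun v =>
    LinearMap.congr_fun ((LinearMap.toMatrix b b).injective (congrArg Subtype.val e)) v
  have hdvd : Nat.card G ∣ 20160 := by
    rw [← GL.FourTwo.card_eq (ZMod.card 2)]
    exact Subgroup.card_dvd_of_injective E hE
  have hGodd : ∃ m, Nat.card G = 120 * m ∧ Odd m := by
    obtain ⟨m, hm⟩ := h120.trans (Subgroup.card_subgroup_dvd_card N)
    refine ⟨m, hm, Nat.odd_iff.2 ?_⟩
    by_contra hm2
    have : 16 ∣ Nat.card G := by omega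
    rw [← y.P.card_mul_index, hP8] at this
    exact y.index (by omega)
  obtain ⟨m, hm, hmodd⟩ := hGodd
  have hm168 : m ∈ ({1, 3, 7, 21} : Finset ℕ) := by
    rw [hm] at hdvd
    have h1 : m ∣ 168 := (Nat.mul_dvd_mul_iff_left (by norm_num : 0 < 120)).1 hdvd
    have h2 : m ∣ 21 := (Nat.Coprime.dvd_mul_left (Nat.Coprime.pow_right 3
      (Nat.coprime_two_right.2 hmodd))).1 (by simpa using h1)
    have := Nat.mem_divisors.2 ⟨h2, by norm_num⟩
    revert this
    rw [show Nat.divisors 21 = {1, 3, 7, 21} by decide]
    exact id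
  have hXc : Nat.card c.X = 8 * m := by
    have := c.X.card_mul_index
    rw [hX15, hm] at this
    omega
  simp only [Finset.mem_insert, Finset.mem_singleton] at hm168
  rcases hm168 with rfl | rfl | rfl | rfl
  · refine Or.inl ?_
    have hNtop : N = ⊤ := Subgroup.eq_top_of_card_eq _ (le_antisymm (Subgroup.card_le_card_group _)
      (by rw [hm]; exact Nat.le_of_dvd Nat.card_pos h120))
    exact Subgroup.normalizer_eq_top_iff.1 hNtop
  · refine Or.inl ?_
    by_cases hNtop : N = ⊤
    · exact Subgroup.normalizer_eq_top_iff.1 hNtop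
    have hN120 : Nat.card N = 120 := by
      obtain ⟨k, hk⟩ := h120
      have hd := Subgroup.card_subgroup_dvd_card N
      have hlt : Nat.card N < Nat.card G := lt_of_le_of_ne (Subgroup.card_le_card_group _)
        fun h => hNtop (Subgroup.eq_top_of_card_eq _ h)
      rw [hm, hk] at hlt hd
      have : k ∣ 3 := (Nat.mul_dvd_mul_iff_left (by norm_num : 0 < 120)).1 hd
      rcases (Nat.dvd_prime Nat.prime_three).1 this with rfl | rfl <;> omega
    have hidx : N.index = 3 := by
      have := N.card_mul_index
      rw [hN120, hm] at this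
      omega
    obtain ⟨k, hk0, hk1⟩ : ∃ k : F, k ≠ 0 ∧ k * k ≠ 1 := by
      by_contra hcon
      push Not at hcon
      have : (Finset.univ : Finset F) ⊆ {0, 1} := fun a _ => by
        by_cases ha : a = 0
        · simp [ha]
        · have h0 : (a - 1) * (a - 1) = 0 := by
            have := hcon a ha
            have h2 : (2 : F) = 0 := CharTwo.two_eq_zero
            linear_combination this + (1 - a) * h2
          simp [sub_eq_zero.1 (mul_self_eq_zero.1 h0)]
      have := (Finset.card_le_card this).trans (Finset.card_insert_le _ _)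
      simp [hF'] at this
    have hperf := commutator_SL2_eq_top hk0 hk1
    have hL' : c.L = ⁅c.L, c.L⁆ := by
      have := Subgroup.map_commutator (⊤ : Subgroup _) ⊤ c.ι
      rw [← commutator_def, hperf, ← MonoidHom.range_eq_map] at this
      exact this
    haveI := Fintype.ofFinite (G ⧸ N)
    let T : G →* Equiv.Perm (G ⧸ N) := MulAction.toPermHom G (G ⧸ N)
    have hLk : c.L ≤ T.ker := by
      let g : G →* ℤˣ := Equiv.Perm.sign.comp T
      have hg : c.L ≤ g.ker := by
        rw [hL', Subgroup.commutator_le]
        intro a _ b _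
        rw [MonoidHom.mem_ker, map_commutatorElement, commutatorElement_eq_one_iff_commute]
        exact Commute.all _ _
      have hA : Nat.card (alternatingGroup (G ⧸ N)) = 3 := by
        haveI : Nontrivial (G ⧸ N) := Finite.one_lt_card_iff_nontrivial.1 (by
          rw [show Nat.card (G ⧸ N) = 3 from hidx]; norm_num)
        rw [nat_card_alternatingGroup, show Nat.card (G ⧸ N) = 3 from hidx]; rfl
      have hcA : ∀ a b : alternatingGroup (G ⧸ N), a * b = b * a := fun a b => by
        haveI : Fact (Nat.Prime 3) := ⟨Nat.prime_three⟩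
        haveI := isCyclic_of_prime_card hA
        exact (IsCyclic.commutative (α := alternatingGroup (G ⧸ N))).is_comm.comm a b
      intro l hl
      rw [hL'] at hl
      revert l
      rw [← SetLike.le_def, Subgroup.commutator_le]
      intro a ha b hb
      rw [MonoidHom.mem_ker, map_commutatorElement, commutatorElement_eq_one_iff_mul_comm]
      exact congrArg Subtype.val (hcA ⟨T a, Equiv.Perm.mem_alternatingGroup.2 (hg ha)⟩
        ⟨T b, Equiv.Perm.mem_alternatingGroup.2 (hg hb)⟩)
    have hkN : T.ker ≤ N := fun g hg => by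
      have := DFunLike.congr_fun (MonoidHom.mem_ker.1 hg) (QuotientGroup.mk (1 : G))
      simp [T] at this
      rw [QuotientGroup.eq] at this
      simpa using this
    have hNN : ⁅N, N⁆ ≤ c.L := by
      have hrel : c.L.relIndex N = 2 := by
        have := Subgroup.relIndex_mul_index (show c.L ≤ N from Subgroup.le_normalizer)
        have h2 := c.L.card_mul_index
        rw [hL, hm] at h2
        rw [hidx] at this
        omega
      haveI : (c.L.subgroupOf N).Normal := Subgroup.normal_in_normalizer
      haveI := isCyclic_of_prime_card (α := ↥N ⧸ c.L.subgroupOf N) (p := 2) hrel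
      rw [Subgroup.commutator_le]
      intro a ha b hb
      have : (QuotientGroup.mk' (c.L.subgroupOf N)) ⁅(⟨a, ha⟩ : ↥N), ⟨b, hb⟩⁆ = 1 := by
        rw [map_commutatorElement, commutatorElement_eq_one_iff_mul_comm]
        exact (IsCyclic.commutative (α := ↥N ⧸ c.L.subgroupOf N)).is_comm.comm _ _
      exact Subgroup.mem_subgroupOf.1 ((QuotientGroup.eq_one_iff _).1 this)
    have hKL : ⁅T.ker, T.ker⁆ = c.L := le_antisymm ((Subgroup.commutator_mono hkN hkN).trans hNN)
      (hL' ▸ Subgroup.commutator_mono hLk hLk)
    rw [← hKL]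
    infer_instance
  · exfalso
    haveI : Fact (Nat.Prime 7) := ⟨by norm_num⟩
    haveI : Fact (Nat.Prime 2) := ⟨Nat.prime_two⟩
    -- a Sylow 7-subgroup of the stabiliser
    obtain ⟨R⟩ : Nonempty (Sylow 7 ↥c.X) := inferInstance
    have hR7 : Nat.card (R : Subgroup ↥c.X) = 7 := by
      rw [R.card_eq_multiplicity, hXc, show (8 * 7 : ℕ) = 2 ^ 3 * 7 ^ 1 from rfl,
        Nat.factorization_mul (by norm_num) (by norm_num), Finsupp.add_apply,
        Nat.factorization_eq_zero_of_not_dvd (by norm_num), Nat.Prime.factorization_pow (by norm_num)]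
      simp
    set P' := y.P.subgroupOf c.X with hP'
    have hP'8 : Nat.card P' = 8 := by
      rw [hP', Nat.card_congr (Subgroup.subgroupOfEquivOfLe hPX).toEquiv, hP8]
    by_cases hRn : (R : Subgroup ↥c.X).Normal
    · -- `U` meets the centraliser of `R` in `P`
      haveI := hRn
      haveI : IsCyclic (R : Subgroup ↥c.X) := isCyclic_of_prime_card hR7
      let α : ↥P' →* MulAut ↥(R : Subgroup ↥c.X) := MulAut.conjNormal.comp P'.subtype
      have hα : Nat.card α.range ≤ 2 := by
        have h1 : Nat.card α.range ∣ 8 := hP'8 ▸ Subgroup.card_range_dvd α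
        have h2 : Nat.card α.range ∣ 6 := by
          have := Subgroup.card_subgroup_dvd_card α.range
          rwa [IsCyclic.card_mulAut, hR7, show Nat.totient 7 = 6 by decide] at this
        exact Nat.le_of_dvd two_pos (show Nat.gcd 8 6 = 2 by decide ▸ Nat.dvd_gcd h1 h2)
      let U' := (c.U.subgroupOf c.X).subgroupOf P'
      have hU' : Nat.card U' = 4 := by
        have hle : c.U.subgroupOf c.X ≤ P' := Subgroup.comap_mono y.U_le
        rw [Nat.card_congr (Subgroup.subgroupOfEquivOfLe hle).toEquiv,
          Nat.card_congr (Subgroup.subgroupOfEquivOfLe c.U_le_X).toEquiv, c.card_U, hF]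
      obtain ⟨t, ht, ht1⟩ : ∃ t ∈ α.ker ⊓ U', t ≠ 1 := by
        refine (Subgroup.bot_or_exists_ne_one _).resolve_left fun h => ?_
        have h1 := Subgroup.index_inf_le (H := α.ker) (K := U')
        rw [h, Subgroup.index_bot, hP'8, Subgroup.index_ker] at h1
        have h2 := U'.card_mul_index
        rw [hU', hP'8] at h2
        nlinarith
      obtain ⟨r, hr, hr1⟩ : ∃ r ∈ (R : Subgroup ↥c.X), r ≠ 1 :=
        (Subgroup.bot_or_exists_ne_one _).resolve_left fun h => by
          rw [h, Subgroup.card_bot] at hR7; omega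
      set t0 : G := ((t : ↥c.X) : G)
      have ht0 : t0 ∈ c.U := Subgroup.mem_subgroupOf.1 (Subgroup.mem_subgroupOf.1 ht.2)
      have ht01 : t0 ≠ 1 := fun h => ht1 (Subtype.ext (Subtype.ext h))
      have hcomm : t0 * (r : G) = (r : G) * t0 := by
        have := congrArg (fun z : MulAut ↥(R : Subgroup ↥c.X) => ((z ⟨r, hr⟩ : ↥c.X) : G))
          (MonoidHom.mem_ker.1 ht.1)
        simp [α] at this
        exact mul_inv_eq_iff_eq_mul.1 this
      have hr7 : (r : G) ^ 7 = 1 := by
        have h := pow_card_eq_one' (x := (⟨r, hr⟩ : ↥(R : Subgroup ↥c.X)))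
        rw [hR7] at h
        simpa using congrArg (fun z => (((z : ↥(R : Subgroup ↥c.X)) : ↥c.X) : G)) h
      -- an injective map of a four element set with seventh power the identity is the identity
      have key : ∀ {A : Type _} (S : Set A) (φ : A → A), S.ncard = 4 → Set.MapsTo φ S S →
          Set.InjOn φ S → (∀ a ∈ S, φ^[7] a = a) → ∀ a ∈ S, φ a = a := by
        intro A S φ hS hm hi h7 a ha
        have hfin : S.Finite := Set.finite_of_ncard_ne_zero (by omega)
        let orb : Fin 7 → A := fun k => φ^[k.1] a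
        have hp : Function.IsPeriodicPt φ 7 a := h7 a ha
        rcases (Nat.dvd_prime (by norm_num : Nat.Prime 7)).1 hp.minimalPeriod_dvd with h | h
        · have := Function.iterate_minimalPeriod (f := φ) (x := a)
          rw [h] at this
          simpa using this
        · exfalso
          have hinj : Function.Injective orb := fun i j hij =>
            Fin.ext ((Function.iterate_injOn_Iio_minimalPeriod (f := φ) (x := a))
              (by rw [h]; exact i.2) (by rw [h]; exact j.2) hij)
          have hsub : Set.range orb ⊆ S := by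
            rintro _ ⟨k, rfl⟩
            exact hm.iterate k.1 ha
          have := Set.ncard_le_ncard hsub hfin
          rw [Set.ncard_range_of_injective hinj, Nat.card_fin, hS] at this
          omega
      have hiter : ∀ (k : ℕ) (v : Fin 2 → F), (c.act (r : G))^[k] v = c.act ((r : G) ^ k) v := by
        intro k v
        induction k with
        | zero => simp
        | succ k ih => rw [Function.iterate_succ_apply', ih, pow_succ', c.act_mul]
      have hrW : ∀ v ∈ (W : Set (Fin 2 → F)), c.act (r : G) v ∈ (W : Set (Fin 2 → F)) := fun v hv => by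
        refine (c.act_U_eq_iff ht0 ht01 _).1 ?_
        rw [← c.act_mul, hcomm, c.act_mul, (c.act_U_eq_iff ht0 ht01 v).2 hv]
      have hW4 : (W : Set (Fin 2 → F)).ncard = 4 := by
        rw [← hF, ← Nat.card_coe_set_eq]
        exact Nat.card_congr ⟨fun v => v.1 0, fun a => ⟨a • e₁, by simp [W, e₁]⟩,
          fun v => Subtype.ext (eq_smul_e₁ v.2).symm, fun a => by simp [e₁]⟩
      have hfix : ∀ v ∈ (W : Set (Fin 2 → F)), c.act (r : G) v = v :=
        key W _ hW4 hrW (c.act (r : G)).injective.injOn fun v _ => by
          rw [hiter, hr7, map_one]; rfl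
      -- the induced map on the second coordinate
      let φ : F → F := fun a => c.act (r : G) (a • e₂) 1
      have hφ : ∀ v, c.act (r : G) v 1 = φ (v 1) := fun v => by
        conv_lhs => rw [vec_eq v, c.map_add, hfix _ (show (v 0 • (e₁ : Fin 2 → F)) 1 = 0 by simp [e₁])]
        simp [φ, e₁]
      have hφk : ∀ (k : ℕ) (v : Fin 2 → F), (c.act (r : G))^[k] v 1 = φ^[k] (v 1) := by
        intro k v
        induction k with
        | zero => simp
        | succ k ih => rw [Function.iterate_succ_apply', Function.iterate_succ_apply', hφ, ih]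
      have hφ7 : ∀ a, φ^[7] a = a := fun a => by
        have := hφk 7 (a • e₂)
        rw [hiter, hr7, map_one] at this
        simpa [e₂] using this.symm
      have hφinj : Function.Injective φ := fun a b hab =>
        (hφ7 a).symm.trans ((congrArg (φ^[6]) hab).trans (hφ7 b))
      have hφid : ∀ a, φ a = a := fun a =>
        key (Set.univ : Set F) φ (by rw [Set.ncard_univ, hF]) (Set.mapsTo_univ _ _) hφinj.injOn
          (fun a _ => hφ7 a) a trivial
      have hrU : (r : G) ∈ c.U := y.KW_eq ▸ (⟨hfix, fun v => by rw [hφ, hφid]⟩ : (r : G) ∈ c.KW)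
      have hdvd : orderOf (r : G) ∣ 4 := by
        rw [← hF, ← c.card_U, ← Subgroup.orderOf_mk (r : G) hrU]
        exact orderOf_dvd_natCard _
      have h7' : orderOf (r : G) ∣ 7 := orderOf_dvd_of_pow_eq_one hr7
      have : orderOf (r : G) = 1 := Nat.eq_one_of_dvd_coprimes (by decide : Nat.Coprime 4 7) hdvd h7'
      exact hr1 (Subtype.ext (orderOf_eq_one_iff.1 this))
    · -- eight Sylow 7-subgroups: `P` is normal
      have hn : Nat.card (Sylow 7 ↥c.X) = 8 := by
        have hd : Nat.card (Sylow 7 ↥c.X) ∣ 8 := by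
          have h1 := R.card_dvd_index
          have h2 := (R : Subgroup ↥c.X).card_mul_index
          rw [hR7, hXc] at h2
          have : (R : Subgroup ↥c.X).index = 8 := by omega
          rwa [this] at h1
        have hmod := card_sylow_modEq_one 7 ↥c.X
        have hne1 : Nat.card (Sylow 7 ↥c.X) ≠ 1 := fun h => hRn (by
          haveI := (Nat.card_eq_one_iff_unique.1 h).1
          exact R.normal_of_subsingleton)
        rcases (Nat.dvd_prime_pow Nat.prime_two).1 (show _ ∣ 2 ^ 3 from hd) with ⟨i, hi, he⟩
        interval_cases i <;> simp_all [Nat.ModEq]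
      have hNR : Subgroup.normalizer ((R : Subgroup ↥c.X) : Set ↥c.X) ≤
          Subgroup.centralizer ((R : Subgroup ↥c.X) : Set ↥c.X) := by
        have h1 := (Subgroup.normalizer ((R : Subgroup ↥c.X) : Set ↥c.X)).card_mul_index
        have h0 := hn.symm.trans R.card_eq_index_normalizer
        erw [← h0] at h1
        rw [hXc] at h1
        have h2 : (R : Subgroup ↥c.X) = Subgroup.normalizer ((R : Subgroup ↥c.X) : Set ↥c.X) :=
          Subgroup.eq_of_le_of_card_ge Subgroup.le_normalizer (by omega)
        rw [← h2]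
        haveI : IsCyclic (R : Subgroup ↥c.X) := isCyclic_of_prime_card hR7
        intro a ha
        refine Subgroup.mem_centralizer_iff.2 fun b hb => ?_
        exact congrArg Subtype.val
          ((IsCyclic.commutative (α := ↥(R : Subgroup ↥c.X))).is_comm.comm (⟨b, hb⟩) ⟨a, ha⟩)
      have hc := MonoidHom.ker_transferSylow_isComplement' R hNR
      set K := (MonoidHom.transferSylow R hNR).ker with hK
      have hK8 : Nat.card K = 8 := by
        have := hc.card_mul
        rw [hR7, hXc] at this
        omega
      have hKp : IsPGroup 2 K := IsPGroup.of_card (n := 3) (by rw [hK8]; rfl)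
      have hPK : P' = K := by
        have hPp : IsPGroup 2 P' := y.isP.comap_subtype
        have hsup : IsPGroup 2 (P' ⊔ K : Subgroup ↥c.X) := hPp.to_sup_of_normal_right hKp
        have hidx : ¬ 2 ∣ P'.index := fun h =>
          y.index (h.trans (Subgroup.relIndex_dvd_index_of_le hPX))
        have h1 : P' ⊔ K = P' := (hPp.toSylow hidx).3 hsup le_sup_left
        exact (Subgroup.eq_of_le_of_card_ge (h1 ▸ le_sup_right) (by rw [hP'8, hK8])).symm
      refine hne (y.weak fun u hu => ?_)
      obtain ⟨z, hz, rfl⟩ := hu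
      have hzK : (⟨z, c.U_le_X hz⟩ : ↥c.X) ∈ K := hPK ▸ Subgroup.mem_subgroupOf.2 (y.U_le hz)
      have := (MonoidHom.normal_ker (MonoidHom.transferSylow R hNR)).conj_mem _ hzK ⟨x₀, hx₀⟩
      have h2 : (⟨x₀, hx₀⟩ : ↥c.X) * ⟨z, c.U_le_X hz⟩ * (⟨x₀, hx₀⟩)⁻¹ ∈ P' := by rw [hPK]; exact this
      exact Subgroup.mem_subgroupOf.1 h2
  · refine Or.inr ?_
    have hR : E.range.index = 8 := by
      have h := E.range.card_mul_index
      rw [Nat.card_congr (MonoidHom.ofInjective hE).toEquiv.symm, hm,
        GL.FourTwo.card_eq (ZMod.card 2)] at h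
      omega
    obtain ⟨i⟩ := iso_seven hR
    exact ⟨(MonoidHom.ofInjective hE).trans i⟩

end Sys

end Cfsg.Agent.NaturalSL2.Embedded
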