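import Cfsg.Agent.Lib.NaturalSL2.Embedded.Fixed

/-!
`SL₂(q)` in natural action inside a group with the same Sylow `p`-normaliser order is normal unless
`q = 4`.
-/

set_option autoImplicit false

namespace Cfsg.Agent.NaturalSL2.Embedded

open Matrix

/-- A field with at most `p` elements in characteristic `p` has only the trivial automorphism. -/
theorem ringAut_eq_one {F : Type*} [Field F] [Fintype F] {p : ℕ} [hp : Fact p.Prime] [CharP F p]
    (h : Nat.card F ≤ p) (σ : F ≃+* F) (x : F) : σ x = x := by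
  have hb : Function.Bijective (ZMod.castHom (dvd_refl p) F) := by
    refine (Fintype.bijective_iff_injective_and_card _).2 ⟨(ZMod.castHom (dvd_refl p) F).injective, ?_⟩
    rw [ZMod.card]
    refine le_antisymm ?_ (by rwa [← Nat.card_eq_fintype_card])
    obtain ⟨n, -, hn⟩ := FiniteField.card F p
    rw [hn]
    exact Nat.le_self_pow n.ne_zero p
  obtain ⟨z, rfl⟩ := hb.2 x
  exact DFunLike.congr_fun
    (RingHom.ext_zmod (σ.toRingHom.comp (ZMod.castHom (dvd_refl p) F)) (ZMod.castHom (dvd_refl p) F)) z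

variable {F G : Type*} [Field F] [Group G] [Finite G] [Fintype F] {c : Ctx F G}
  {p : ℕ} [hp : Fact p.Prime] [CharP F p]

namespace Sys

variable (y : Sys c p)
include y

theorem exists_conj_le {Q : Subgroup G} (hQ : IsPGroup p Q) (hQX : Q ≤ c.X) :
    ∃ x ∈ c.X, ∀ u ∈ Q, x⁻¹ * u * x ∈ y.P := by
  have hP : IsPGroup p (y.P.subgroupOf c.X) := y.isP.comap_subtype
  have hidx : ¬ p ∣ (y.P.subgroupOf c.X).index := fun h =>
    y.index (h.trans (Subgroup.relIndex_dvd_index_of_le (y.le.trans inf_le_right)))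
  obtain ⟨R, hR⟩ := IsPGroup.exists_le_sylow (hQ.comap_subtype (K := c.X))
  obtain ⟨x, hx⟩ := MulAction.exists_smul_eq ↥c.X (hP.toSylow hidx) R
  refine ⟨x, x.2, fun u hu => ?_⟩
  have hm : (⟨u, hQX hu⟩ : ↥c.X) ∈ (R : Subgroup ↥c.X) := hR (Subgroup.mem_subgroupOf.2 hu)
  rw [← hx, Sylow.coe_subgroup_smul, Subgroup.mem_pointwise_smul_iff_inv_smul_mem] at hm
  simpa [Subgroup.mem_subgroupOf, MulAut.smul_def] using hm

theorem conj_mem_U {x : G} (hx : c.Wof x = W) {u : G} (hu : u ∈ c.U) : x * u * x⁻¹ ∈ c.U := by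
  rw [← y.KW_eq] at hu ⊢
  exact c.conj_mem_KW hx hu

theorem Uof_eq_one {x : G} (hx : c.Wof x = W) : c.Uof x = c.U := by
  refine Subgroup.eq_of_le_of_card_ge ?_ (le_of_eq (by rw [c.card_Uof, c.card_U]))
  rintro _ ⟨u, hu, rfl⟩
  exact y.conj_mem_U hx hu

theorem Uof_eq {g h : G} (e : c.Wof g = c.Wof h) : c.Uof g = c.Uof h := by
  have hx : c.Wof (h⁻¹ * g) = W := by
    rw [c.Wof_mul, e, ← c.Wof_mul, inv_mul_cancel, c.Wof_one]
  have h1 := c.Uof_mul h (h⁻¹ * g)
  rw [mul_inv_cancel_left, y.Uof_eq_one hx] at h1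
  exact h1

/-- The root group is weakly closed in the Sylow subgroup. -/
theorem weak {g : G} (hg : c.Uof g ≤ y.P) : c.Wof g = W := by
  by_contra hne
  have hdis : ∀ u ∈ c.Uof g, u ∈ c.U → u = 1 := fun u hu hu' => by
    by_contra h1
    exact hne ((c.Wof_eq_of_mem hu (c.Uof_one ▸ hu' : u ∈ c.Uof 1) h1).trans c.Wof_one)
  let f : ↥(c.Uof g) →* (F ≃+* F) := c.σ.comp (Subgroup.inclusion (hg.trans y.le))
  have hf : Function.Injective f := by
    rw [← MonoidHom.ker_eq_bot_iff, Subgroup.eq_bot_iff_forall]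
    intro u hu
    obtain ⟨j, hj⟩ := y.isP ⟨u, hg u.2⟩
    refine Subtype.ext (hdis u u.2 (c.mem_U_of_s (j := j) (hg.trans y.le u.2) (fun x => ?_) ?_))
    · exact DFunLike.congr_fun (hu : f u = 1) x
    · simpa using congrArg Subtype.val hj
  have hexp : ∀ u ∈ c.Uof g, u ^ p = 1 := by
    rintro _ ⟨w, hw, rfl⟩
    obtain ⟨j, hj⟩ := (c.isPGroup_KW (p := p)) ⟨w, c.U_le_KW hw⟩
    obtain ⟨a, rfl⟩ := c.mem_U.1 hw
    have hwp : c.ι (uni a) ^ p = 1 := by
      refine c.ext_act fun v => ?_
      have hk : ∀ k : ℕ, c.act (c.ι (uni a) ^ k) v = ![v 0 + (k : F) * (a * v 1), v 1] := fun k => by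
        induction k with
        | zero => funext i; fin_cases i <;> simp
        | succ k ih =>
          rw [pow_succ', c.act_mul, ih, c.act_uni]
          funext i; fin_cases i <;> simp; ring
      rw [hk, CharP.cast_eq_zero F p, map_one, Equiv.Perm.one_apply]
      funext i; fin_cases i <;> simp
    rw [← map_pow, hwp, map_one]
  have hcard : Nat.card F ≤ p := by
    classical
    haveI : Finite (F ≃+* F) := Finite.of_injective (fun σ => (σ : F → F)) DFunLike.coe_injective
    have : Fintype (F ≃+* F) := Fintype.ofFinite _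
    have : IsCyclic (F ≃+* F) := Chev.isCyclic_ringAut F
    calc Nat.card F = Nat.card ↥(c.Uof g) := (c.card_Uof g).symm
      _ ≤ Nat.card {σ : F ≃+* F // σ ^ p = 1} :=
          Nat.card_le_card_of_injective
            (fun u => ⟨f u, by rw [← map_pow, show u ^ p = 1 from Subtype.ext (hexp u u.2), map_one]⟩)
            (fun u v h => hf (congrArg Subtype.val h))
      _ ≤ p := by
          rw [Nat.card_eq_fintype_card, Fintype.card_subtype]
          exact IsCyclic.card_pow_eq_one_le hp.out.pos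
  have hle : c.Uof g ≤ c.U := fun u hu => by
    obtain ⟨j, hj⟩ := y.isP ⟨u, hg hu⟩
    exact c.mem_U_of_s (j := j) (hg.trans y.le hu)
      (fun x => ringAut_eq_one hcard (c.σ ⟨u, hg.trans y.le hu⟩) x)
      (by simpa using congrArg Subtype.val hj)
  have hne1 : c.Uof g ≠ ⊥ := fun h => by
    have := c.card_Uof g
    rw [h, Subgroup.card_bot] at this
    exact (Finite.one_lt_card (α := F)).ne this
  obtain ⟨u, hu, hu1⟩ := (Subgroup.bot_or_exists_ne_one _).resolve_left hne1
  exact hu1 (hdis u hu (hle hu))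

/-- If all fixed lines through `e₁` coincide then `L` is normal. -/
theorem normal_L (h : ∀ x ∈ c.X, c.Wof x = W) : c.L.Normal := by
  have hU : ∀ g : G, c.Uof g ≤ c.L := fun g => by
    obtain ⟨l, hl, e⟩ := c.exists_act_e₁
      (v := c.act g e₁) fun h0 => e₁_ne_zero ((c.act g).injective (h0.trans (c.act_zero g).symm))
    have hx : l⁻¹ * g ∈ c.X := by
      show c.act (l⁻¹ * g) e₁ = e₁
      rw [c.act_mul, ← e, c.act_inv_cancel]
    have hWl : c.Wof g = c.Wof l := by
      have := c.Wof_mul l (l⁻¹ * g)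
      rwa [mul_inv_cancel_left, h _ hx] at this
    rw [y.Uof_eq hWl]
    rintro _ ⟨u, hu, rfl⟩
    exact mul_mem (mul_mem hl (c.U_le_L hu)) (inv_mem hl)
  have key : ∀ (g : G) (s : Matrix.SpecialLinearGroup (Fin 2) F), g * c.ι s * g⁻¹ ∈ c.L := by
    intro g s
    induction s using GL.SL_induction with
    | one => simp
    | transvec i j hij a =>
      fin_cases i <;> fin_cases j <;> first | exact absurd rfl hij | skip
      · have e : Matrix.SpecialLinearGroup.transvection hij a = uni a := by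
          apply Subtype.ext
          ext r s
          fin_cases r <;> fin_cases s <;>
            simp [uni, Matrix.SpecialLinearGroup.transvection_coe, Matrix.transvection]
        rw [e]
        exact hU g (c.conj_mem_Uof (c.mem_U.2 ⟨a, rfl⟩))
      · let w : Matrix.SpecialLinearGroup (Fin 2) F :=
          ⟨!![0, 1; -1, 0], by simp [Matrix.det_fin_two]⟩
        have e : Matrix.SpecialLinearGroup.transvection hij a = w * uni (-a) * w⁻¹ := by
          apply Subtype.ext
          rw [Matrix.SpecialLinearGroup.coe_mul, Matrix.SpecialLinearGroup.coe_mul,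
            Matrix.SpecialLinearGroup.coe_inv]
          ext r s
          fin_cases r <;> fin_cases s <;>
            simp [w, uni, Matrix.SpecialLinearGroup.transvection_coe, Matrix.transvection,
              Matrix.SpecialLinearGroup.coe_inv, Matrix.adjugate_fin_two, Matrix.mul_apply,
              Fin.sum_univ_two]
        rw [e, map_mul, map_mul, map_inv]
        have h2 := hU (g * c.ι w) (c.conj_mem_Uof (g := g * c.ι w) (c.mem_U.2 ⟨-a, rfl⟩))
        simpa [mul_assoc] using h2
    | mul A B hA hB =>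
      have := mul_mem hA hB
      simpa [mul_assoc] using this
  exact ⟨fun n hn g => by obtain ⟨s, rfl⟩ := hn; exact key g s⟩

omit hp [CharP F p] y in
theorem ncard_inter_Wof (g h : G) :
    (c.Wof g ∩ c.Wof h).ncard = ((W : Set (Fin 2 → F)) ∩ c.Wof (g⁻¹ * h)).ncard := by
  have e1 : c.Wof h = c.act g '' c.Wof (g⁻¹ * h) := by rw [← c.Wof_mul, mul_inv_cancel_left]
  have e2 : c.Wof g = c.act g '' W := rfl
  rw [e1, e2, ← Set.image_inter (c.act g).injective, Set.ncard_image_of_injective _ (c.act g).injective]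

/-- Two different fixed lines through `e₁` force `q = 4`. -/
theorem exceptional {x₀ : G} (hx₀ : x₀ ∈ c.X) (hne₀ : c.Wof x₀ ≠ W) :
    p = 2 ∧ Nat.card F = 4 ∧ ∃ u ∈ y.P, u ∉ c.U := by
  classical
  obtain ⟨x, ⟨hxX, hne⟩, hmax⟩ := Set.exists_max_image {x : G | x ∈ c.X ∧ c.Wof x ≠ W}
    (fun x => ((W : Set (Fin 2 → F)) ∩ c.Wof x).ncard) (Set.toFinite _) ⟨x₀, hx₀, hne₀⟩
  obtain ⟨v, hv, hvW⟩ : ∃ v ∈ c.Wof x, v ∉ (W : Set (Fin 2 → F)) := by
    by_contra hcon
    push Not at hcon
    refine hne (Set.eq_of_subset_of_ncard_le hcon ?_ (Set.toFinite _))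
    rw [Ctx.Wof, Set.ncard_image_of_injective _ (c.act x).injective]
  have hv1 : v 1 ≠ 0 := hvW
  let u : G := c.ι (uni (v 1)⁻¹)
  have huU : u ∈ c.U := c.mem_U.2 ⟨_, rfl⟩
  have huX : u ∈ c.X := c.U_le_X huU
  have huv : c.act u v = v + e₁ := by
    rw [c.act_uni]
    funext i; fin_cases i <;> simp [e₁, hv1]
  have hu1 : u ≠ 1 := fun h => by
    rw [h, map_one, Equiv.Perm.one_apply] at huv
    exact e₁_ne_zero (add_left_cancel (huv.symm.trans (add_zero v).symm))
  have hadd : ∀ a b : Fin 2 → F, a ∈ c.Wof x → b ∈ c.Wof x → a + b ∈ c.Wof x := by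
    intro a b ha hb
    rw [c.mem_Wof] at ha hb ⊢
    rw [c.map_add, Pi.add_apply, ha, hb, add_zero]
  have hWux : c.Wof (u * x) = c.Wof x := by
    by_contra h
    have hlt : ((W : Set (Fin 2 → F)) ∩ c.Wof x).ncard < (c.Wof x ∩ c.Wof (u * x)).ncard := by
      refine Set.ncard_lt_ncard (Set.ssubset_iff_of_subset ?_ |>.2 ⟨c.act u v, ⟨?_, ?_⟩, ?_⟩)
        (Set.toFinite _)
      · rintro z ⟨hzW, hzx⟩
        refine ⟨hzx, ?_⟩
        rw [c.Wof_mul]
        exact ⟨z, hzx, (c.act_U_eq_iff huU hu1 z).2 hzW⟩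
      · rw [huv]; exact hadd _ _ hv (c.X_le_of_mem hxX)
      · rw [c.Wof_mul]; exact ⟨v, hv, rfl⟩
      · rintro ⟨h1, -⟩
        have : (v + e₁ : Fin 2 → F) 1 = 0 := huv ▸ h1
        simp [e₁] at this
        exact hv1 this
    rw [ncard_inter_Wof] at hlt
    exact hlt.not_ge (hmax _ ⟨mul_mem (inv_mem hxX) (mul_mem huX hxX), fun e => h (by
      have := c.Wof_mul x (x⁻¹ * (u * x))
      rwa [mul_inv_cancel_left, e] at this)⟩)
  have hu2 : u ^ p = 1 := by
    obtain ⟨a, ha⟩ := c.mem_U.1 huU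
    have hk : ∀ (k : ℕ) (z : Fin 2 → F), c.act (u ^ k) z = ![z 0 + (k : F) * (a * z 1), z 1] := by
      intro k z
      induction k with
      | zero => funext i; fin_cases i <;> simp
      | succ k ih =>
        rw [pow_succ', c.act_mul, ih, ha, c.act_uni]
        funext i; fin_cases i <;> simp; ring
    refine c.ext_act fun z => ?_
    rw [hk, CharP.cast_eq_zero F p, map_one, Equiv.Perm.one_apply]
    funext i; fin_cases i <;> simp
  have hnorm : ∀ s ∈ c.Uof x, u * s * u⁻¹ ∈ c.Uof x := fun s hs => by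
    rw [← y.Uof_eq hWux, c.Uof_mul]
    exact ⟨s, hs, rfl⟩
  have hUp : ∀ g, IsPGroup p (c.Uof g) := fun g =>
    (((y.KW_eq ▸ c.isPGroup_KW : IsPGroup p c.U)).map _)
  have hzp : IsPGroup p (Subgroup.zpowers u) :=
    (y.KW_eq ▸ c.isPGroup_KW : IsPGroup p c.U).to_le ((Subgroup.zpowers_le).2 huU)
  have hmemN : u ∈ Subgroup.normalizer (c.Uof x : Set G) :=
    Subgroup.mem_normalizer_fintype hnorm
  have hQ : IsPGroup p (c.Uof x ⊔ Subgroup.zpowers u : Subgroup G) :=
    IsPGroup.to_sup_of_normal_left' (hUp x) hzp ((Subgroup.zpowers_le).2 hmemN)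
  have hQX : (c.Uof x ⊔ Subgroup.zpowers u : Subgroup G) ≤ c.X :=
    sup_le (c.Uof_le_X hxX) ((Subgroup.zpowers_le).2 huX)
  obtain ⟨z, hzX, hz⟩ := y.exists_conj_le hQ hQX
  have hWz : c.Wof (z⁻¹ * x) = W := y.weak fun w hw => by
    rw [c.Uof_mul] at hw
    obtain ⟨s, hs, rfl⟩ := hw
    simpa using hz s (le_sup_left (a := c.Uof x) hs)
  have hWzx : c.Wof x = c.Wof z := by
    have := c.Wof_mul z (z⁻¹ * x)
    rwa [mul_inv_cancel_left, hWz] at this
  set u' := z⁻¹ * u * z with hu'
  have hu'P : u' ∈ y.P :=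
    hz u (le_sup_right (a := c.Uof x) (Subgroup.mem_zpowers u))
  have hu'U : u' ∉ c.U := fun h => hne (by
    rw [hWzx, c.Wof_eq_of_mem (c.mem_Uof.2 h : u ∈ c.Uof z) (c.Uof_one.symm ▸ huU : u ∈ c.Uof 1) hu1,
      c.Wof_one])
  have hp2 : p = 2 := by
    by_contra hp2
    have hquad : ∀ w : Fin 2 → F, c.act u' (c.act u' w - w) = c.act u' w - w := fun w => by
      have hd : c.act u (c.act z w) - c.act z w ∈ (W : Set (Fin 2 → F)) := by
        show (c.act u (c.act z w) - c.act z w) 1 = 0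
        rw [c.act_uni]; simp
      have hfix := (c.act_U_eq_iff huU hu1 _).2 hd
      have e : c.act u' w - w = c.act z⁻¹ (c.act u (c.act z w) - c.act z w) := by
        rw [hu', c.act_mul, c.act_mul, c.act_sub, c.act_inv_cancel]
      rw [e, hu', c.act_mul, c.act_mul, c.act_cancel_inv, hfix]
    have hN := y.le hu'P
    apply hu'U
    obtain ⟨j, hj⟩ := y.isP ⟨u', hu'P⟩
    refine c.mem_U_of_s (j := j) hN (fun a => ?_) (by simpa using congrArg Subtype.val hj)
    have hfx : ∀ b : F, c.s u' (c.s u' b - b) = c.s u' b - b := fun b => by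
      have := congrFun (hquad (b • e₁)) 0
      rw [c.act_smul_e₁ hN b, ← sub_smul, c.act_smul_e₁ hN] at this
      simpa [e₁] using this
    by_contra hne
    set t := c.s u' a - a with ht
    have e1 : c.s u' a = a + t := by rw [ht]; ring
    have e2 := hfx (a * a)
    rw [c.s_mul_mul hN, e1] at e2
    have e3 : c.s u' t = t := hfx a
    rw [show (a + t) * (a + t) - a * a = (a + a + t) * t by ring, c.s_mul_mul hN, c.s_add, c.s_add,
      e1, e3] at e2
    have e4 : (2 : F) * (t * t) = 0 := by linear_combination e2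
    have h2 : (2 : F) ≠ 0 := Ring.two_ne_zero (by rwa [← ringChar.eq F p] at hp2)
    rcases mul_eq_zero.1 e4 with h | h
    · exact h2 h
    · exact hne (sub_eq_zero.1 (mul_self_eq_zero.1 h))
  refine ⟨hp2, ?_, u', hu'P, hu'U⟩
  subst hp2
  let C : Subgroup G := c.Uof x ⊓ Subgroup.centralizer {u}
  have huu : u * u = 1 := by rw [← pow_two]; exact hu2
  have hinv : u⁻¹ = u := inv_eq_of_mul_eq_one_left huu
  have hUexp : ∀ g, ∀ s ∈ c.Uof g, s * s = 1 := by
    rintro g _ ⟨w, hw, rfl⟩
    obtain ⟨a, rfl⟩ := c.mem_U.1 hw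
    have : c.ι (uni a) * c.ι (uni a) = 1 := by
      refine c.ext_act fun v => ?_
      rw [c.act_mul, c.act_uni, c.act_uni, map_one, Equiv.Perm.one_apply]
      funext i; fin_cases i <;> simp [add_assoc, CharTwo.add_self_eq_zero]
    rw [← map_mul, this, map_one]
  have hcomm : ∀ g, ∀ s ∈ c.Uof g, ∀ t ∈ c.Uof g, s * t = t * s := fun g s hs t ht => by
    have h := hUexp g _ (mul_mem hs ht)
    have hs' : s⁻¹ = s := inv_eq_of_mul_eq_one_left (hUexp g s hs)
    have ht' : t⁻¹ = t := inv_eq_of_mul_eq_one_left (hUexp g t ht)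
    calc s * t = (s * t)⁻¹ := (inv_eq_of_mul_eq_one_left h).symm
      _ = t * s := by rw [_root_.mul_inv_rev, hs', ht']
  have hu_in : ∀ s ∈ c.Uof x, u * s * u ∈ c.Uof x := fun s hs => by
    have := hnorm s hs
    rwa [hinv] at this
  have hC2 : Nat.card F ≤ Nat.card C * Nat.card C := by
    let f : ↥(c.Uof x) →* G :=
      { toFun := fun s => (s : G) * (u * s * u)
        map_one' := by simp [huu]
        map_mul' := fun s t => by
          have e : u * (s : G) * u * t = t * (u * s * u) := hcomm x _ (hu_in s s.2) t t.2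
          have e' : u * ((s : G) * t) * u = (u * s * u) * (u * t * u) := by
            simp only [mul_assoc]; rw [← mul_assoc u u, huu, one_mul]
          show (s : G) * t * (u * ((s : G) * t) * u) = _
          rw [e', mul_assoc (s : G) t, ← mul_assoc (t : G), ← e, mul_assoc (u * (s : G) * u) t]
          simp only [mul_assoc] }
    have hrange : f.range ≤ C := by
      rintro _ ⟨s, rfl⟩
      refine ⟨mul_mem s.2 (hu_in s s.2), Subgroup.mem_centralizer_singleton_iff.2 ?_⟩
      show (s : G) * (u * s * u) * u = u * ((s : G) * (u * s * u))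
      have e := hcomm x _ s.2 _ (hu_in s s.2)
      conv_rhs => rw [e]
      simp only [mul_assoc, huu, mul_one]
      rw [← mul_assoc u u, huu, one_mul]
    have hker : f.ker.map (c.Uof x).subtype ≤ C := by
      rintro _ ⟨s, hs, rfl⟩
      refine ⟨s.2, Subgroup.mem_centralizer_singleton_iff.2 ?_⟩
      have hs1 : (s : G) * (u * s * u) = 1 := hs
      have h3 : u * (s : G) * u = s :=
        (eq_inv_of_mul_eq_one_right hs1).trans (inv_eq_of_mul_eq_one_left (hUexp x s s.2))
      show (s : G) * u = u * s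
      calc (s : G) * u = u * s * u * u := by rw [h3]
        _ = u * s := by rw [mul_assoc, huu, mul_one]
    calc Nat.card F = Nat.card ↥(c.Uof x) := (c.card_Uof x).symm
      _ = Nat.card (↥(c.Uof x) ⧸ f.ker) * Nat.card f.ker := Subgroup.card_eq_card_quotient_mul_card_subgroup _
      _ ≤ Nat.card C * Nat.card C := by
          gcongr
          · rw [Nat.card_congr (QuotientGroup.quotientKerEquivRange f).toEquiv]
            exact Subgroup.card_le_of_le hrange
          · rw [← Subgroup.card_map_of_injective (Subgroup.subtype_injective (c.Uof x))]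
            exact Subgroup.card_le_of_le hker
  have hCW : ∀ t ∈ C, c.Wof t = W := fun t ht => c.Wof_eq_of_preserves fun w hw => by
    have hc : t * u = u * t := Subgroup.mem_centralizer_singleton_iff.1 ht.2
    refine (c.act_U_eq_iff huU hu1 _).1 ?_
    rw [← c.act_mul, ← hc, c.act_mul, (c.act_U_eq_iff huU hu1 w).2 hw]
  have hdisC : ∀ t ∈ C, t ∈ c.U → t = 1 := fun t ht htU => by
    by_contra h1
    exact hne ((c.Wof_eq_of_mem ht.1 (c.Uof_one.symm ▸ htU : t ∈ c.Uof 1) h1).trans c.Wof_one)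
  have hCp : IsPGroup 2 C := (hUp x).to_le inf_le_left
  have hQ' : IsPGroup 2 (c.U ⊔ C : Subgroup G) :=
    IsPGroup.to_sup_of_normal_left' (y.KW_eq ▸ c.isPGroup_KW : IsPGroup 2 c.U) hCp fun t ht =>
      Subgroup.mem_normalizer_fintype fun s hs => y.conj_mem_U (hCW t ht) hs
  obtain ⟨g, hgX, hg⟩ := y.exists_conj_le hQ'
    (sup_le c.U_le_X (inf_le_left.trans (c.Uof_le_X hxX)))
  have hWg : c.Wof g⁻¹ = W := y.weak fun w hw => by
    obtain ⟨s, hs, rfl⟩ := hw
    simpa using hg s (le_sup_left (b := C) hs)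
  have hfC : Nat.card C ≤ 2 := by
    have hin : ∀ t : ↥C, g⁻¹ * (t : G) * g ∈ y.P := fun t => hg t (le_sup_right (a := c.U) t.2)
    let f : ↥C →* (F ≃+* F) :=
      c.σ.comp (((MulAut.conj g⁻¹).toMonoidHom.comp C.subtype).codRestrict
        (Subgroup.normalizer (c.L : Set G) ⊓ c.X) fun t => by simpa using y.le (hin t))
    have hf : Function.Injective f := by
      rw [← MonoidHom.ker_eq_bot_iff, Subgroup.eq_bot_iff_forall]
      intro t ht
      obtain ⟨j, hj⟩ := y.isP ⟨_, hin t⟩
      have hmem : g⁻¹ * (t : G) * g ∈ c.U := by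
        refine c.mem_U_of_s (j := j) (y.le (hin t)) (fun a => ?_) (by simpa using congrArg Subtype.val hj)
        have := DFunLike.congr_fun (ht : f t = 1) a
        simpa [f] using this
      have h2 : (t : G) ∈ c.Uof g := c.mem_Uof.2 hmem
      have hgg : c.Uof g = c.U := by
        have h3 := c.Uof_mul g g⁻¹
        rw [mul_inv_cancel, c.Uof_one, y.Uof_eq_one hWg] at h3
        exact h3.symm
      exact Subtype.ext (hdisC t t.2 (hgg ▸ h2))
    classical
    haveI : Finite (F ≃+* F) := Finite.of_injective (fun σ => (σ : F → F)) DFunLike.coe_injective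
    have : Fintype (F ≃+* F) := Fintype.ofFinite _
    have : IsCyclic (F ≃+* F) := Chev.isCyclic_ringAut F
    calc Nat.card C ≤ Nat.card {σ : F ≃+* F // σ ^ 2 = 1} :=
          Nat.card_le_card_of_injective
            (fun t => ⟨f t, by
              rw [← map_pow, show t ^ 2 = 1 from Subtype.ext (by
                rw [Subgroup.coe_pow, pow_two]; exact hUexp x t t.2.1), map_one]⟩)
            (fun s t h => hf (congrArg Subtype.val h))
      _ ≤ 2 := by
          rw [Nat.card_eq_fintype_card, Fintype.card_subtype]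
          exact IsCyclic.card_pow_eq_one_le two_pos
  have hq4 : Nat.card F ≤ 4 := hC2.trans (Nat.mul_le_mul hfC hfC)
  obtain ⟨n, -, hn⟩ := FiniteField.card F 2
  rw [Nat.card_eq_fintype_card] at hq4 ⊢
  rw [hn] at hq4 ⊢
  have hn2 : (n : ℕ) ≤ 2 := (Nat.pow_le_pow_iff_right one_lt_two).1 hq4
  have hn1 : (n : ℕ) ≠ 1 := fun h1 => by
    refine hu'U ?_
    obtain ⟨j, hj⟩ := y.isP ⟨u', hu'P⟩
    refine c.mem_U_of_s (j := j) (y.le hu'P) (fun a => ?_) (by simpa using congrArg Subtype.val hj)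
    exact ringAut_eq_one (p := 2) (by rw [Nat.card_eq_fintype_card, hn, h1, pow_one])
      (c.σ ⟨u', y.le hu'P⟩) a
  have := n.pos
  have : (n : ℕ) = 2 := by omega
  rw [this]; norm_num

end Sys

end Cfsg.Agent.NaturalSL2.Embedded
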